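import Mathlib
import Cfsg.Prelude.Def_GeometricClasses
import Cfsg.Prelude.Def_ClassicalGeometry

/-!
# Project S6002 (helper22): `PSp_4(p)`, `p` odd, and the normalizer of an extraspecial group `2^{1+4}_-`.

Definitions shared by all rows.  `R ≤ GL(ι, F)`, `|ι| = 4`, `2 ≠ 0` in `F`.
-/

set_option autoImplicit false
open scoped MatrixGroups

namespace Cfsg.Agent.Lib.Helper22.S6002

variable {ι : Type} [Fintype ι] [DecidableEq ι] {F : Type*} [Field F]

/-- the abstract context: `R` is a subgroup of order 32 of `GL(ι, F)` with centre `{1, -1}`, all commutators and all squares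
in `{1, -1}`, and commutant the scalars (an extraspecial group `2^{1+4}` acting absolutely irreducibly). -/
structure ECtx (R : Subgroup (GL ι F)) : Prop where
  two : (2 : F) ≠ 0
  card : Nat.card R = 32
  neg : (-1 : GL ι F) ∈ R
  comm : ∀ a ∈ R, ∀ b ∈ R, a * b = b * a ∨ a * b = -(b * a)
  sq : ∀ a ∈ R, a * a = 1 ∨ a * a = -1
  cen : ∀ a ∈ R, (∀ b ∈ R, a * b = b * a) → a = 1 ∨ a = -1
  commutant : ∀ M : Matrix ι ι F, (∀ b ∈ R, M * (b : Matrix ι ι F) = (b : Matrix ι ι F) * M) →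
    ∃ c : F, M = c • (1 : Matrix ι ι F)

/-- minus type, elementwise: two commuting involutions of `R` never span a four-group modulo `{1, -1}`. -/
def NoKlein (R : Subgroup (GL ι F)) : Prop :=
  ∀ a ∈ R, ∀ b ∈ R, a * a = 1 → b * b = 1 → a * b = b * a →
    a = 1 ∨ a = -1 ∨ b = 1 ∨ b = -1 ∨ a = b ∨ a = -b

/-- a Clifford frame of `R`: four pairwise anticommuting involutions generating `R`. -/
structure IsFrame (R : Subgroup (GL ι F)) (e : Fin 4 → GL ι F) : Prop where
  mem : ∀ i, e i ∈ R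
  sq : ∀ i, e i * e i = 1
  anti : ∀ i j, i ≠ j → e i * e j = -(e j * e i)
  gen : R = Subgroup.closure (Set.range e)

/-- the normalizer of `R` in `GL(ι, F)` (definitionally `Cfsg.Geo.subgroupNormalizer R`). -/
abbrev Nrm (R : Subgroup (GL ι F)) : Subgroup (GL ι F) := Subgroup.normalizer (R : Set (GL ι F))

/-- the centralizer of `g` in `R`. -/
def centR (R : Subgroup (GL ι F)) (g : GL ι F) : Subgroup (GL ι F) where
  carrier := {b | b ∈ R ∧ g * b = b * g}
  mul_mem' := by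
    rintro a b ⟨ha, ha'⟩ ⟨hb, hb'⟩
    refine ⟨R.mul_mem ha hb, ?_⟩
    rw [← mul_assoc, ha', mul_assoc, hb', mul_assoc]
  one_mem' := ⟨R.one_mem, by rw [mul_one, one_mul]⟩
  inv_mem' := by
    rintro a ⟨ha, ha'⟩
    refine ⟨R.inv_mem ha, ?_⟩
    have h : a⁻¹ * (g * a) * a⁻¹ = a⁻¹ * (a * g) * a⁻¹ := by rw [ha']
    rw [mul_assoc, mul_assoc, mul_inv_cancel, mul_one, ← mul_assoc a⁻¹ a g, inv_mul_cancel, one_mul] at h
    exact h.symm

/-- `g` is (the matrix of) a scalar. -/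
def IsScal (g : GL ι F) : Prop := ∃ c : F, (g : Matrix ι ι F) = c • (1 : Matrix ι ι F)

/-- the matrix acting as `!![0, -1; 1, c]` on the hyperbolic pair `(inl 0, inr 0)` and as the identity on `(inl 1, inr 1)`. -/
def xc (c : F) : Matrix (Fin 2 ⊕ Fin 2) (Fin 2 ⊕ Fin 2) F :=
  Matrix.fromBlocks !![0, 0; 0, 1] !![-1, 0; 0, 0] !![1, 0; 0, 0] !![c, 0; 0, 1]

end Cfsg.Agent.Lib.Helper22.S6002
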